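import Mathlib
import Groth.Agent.GrpSchField.ClosedImage

/-!
# A field inside a domain of finite type over a field is algebraic
-/

set_option autoImplicit false
universe u

open Polynomial

namespace Groth.Agent.GrpdDim

/-- The image of a field in a domain of finite type over a field consists of algebraic elements. -/
theorem isAlgebraic_of_field_hom {k D F : Type u} [Field k] [CommRing D] [IsDomain D] [Algebra k D]
    [Algebra.FiniteType k D] [Field F] (φ : F →+* D) (x : F) : IsAlgebraic k (φ x) := by
  by_contra htr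
  have hinj : Function.Injective (aeval (R := k) (φ x)) := transcendental_iff_injective.mp htr
  algebraize [(aeval (R := k) (φ x)).toRingHom]
  have : IsScalarTower k k[X] D := IsScalarTower.of_algebraMap_eq fun c => ((aeval (R := k) (φ x)).commutes c).symm
  have : Algebra.FiniteType k[X] D := .of_restrictScalars_finiteType k _ _
  have hfp : (algebraMap k[X] D).FinitePresentation :=
    RingHom.finitePresentation_algebraMap.mpr (Algebra.FinitePresentation.of_finiteType.mp this)
  have hcons := PrimeSpectrum.isConstructible_range_comap hfp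
  let η : PrimeSpectrum k[X] := ⟨⊥, Ideal.isPrime_bot⟩
  have hη : η ∈ Set.range (PrimeSpectrum.comap (algebraMap k[X] D)) :=
    ⟨⟨⊥, Ideal.isPrime_bot⟩, PrimeSpectrum.ext (Ideal.comap_bot_of_injective _ hinj)⟩
  obtain ⟨O, hO, hηO, hsub⟩ := (GrpSchField.exists_open_of_mem_constructible hcons η).1 hη
  obtain ⟨_, ⟨g, rfl⟩, hηg, hgO⟩ := PrimeSpectrum.isTopologicalBasis_basic_opens.exists_subset_of_mem_open hηO hO
  have hg : g ≠ 0 := fun h => hηg (by subst h; exact Submodule.zero_mem _)
  -- a root of unity which is not a root of `g`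
  obtain ⟨n, hn, hnk⟩ : ∃ n : ℕ, g.natDegree < n ∧ (n : k) ≠ 0 := by
    by_cases h : ((g.natDegree + 1 : ℕ) : k) = 0
    · refine ⟨g.natDegree + 2, by omega, fun h' => ?_⟩
      push_cast at h h'
      exact one_ne_zero (α := k) (by linear_combination h' - h)
    · exact ⟨_, by omega, h⟩
  classical
  let K := AlgebraicClosure k
  have : NeZero ((n : ℕ) : K) := ⟨fun h => hnk ((algebraMap k K).injective (by simpa using h))⟩
  obtain ⟨ζ, hζ⟩ := HasEnoughRootsOfUnity.exists_primitiveRoot K n
  obtain ⟨a, ha, hga⟩ : ∃ a : K, a ^ n = 1 ∧ aeval a g ≠ 0 := by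
    by_contra h
    push Not at h
    have hsub : (Polynomial.nthRootsFinset n (1 : K)) ⊆ (g.map (algebraMap k K)).roots.toFinset := fun a ha => by
      rw [Multiset.mem_toFinset, Polynomial.mem_roots (Polynomial.map_ne_zero hg), IsRoot, Polynomial.eval_map_algebraMap]
      exact h a ((Polynomial.mem_nthRootsFinset (by omega) 1).mp ha)
    have := (Finset.card_le_card hsub).trans (Multiset.toFinset_card_le _)
    rw [hζ.card_nthRootsFinset] at this
    have := this.trans (Polynomial.card_roots' _)
    rw [Polynomial.natDegree_map] at this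
    omega
  let m : PrimeSpectrum k[X] := ⟨RingHom.ker (aeval (R := k) a), RingHom.ker_isPrime _⟩
  obtain ⟨Q, hQ⟩ := hsub ⟨hgO (show g ∉ m.asIdeal from hga),
    specializes_iff_mem_closure.mp ((PrimeSpectrum.le_iff_specializes η m).mp bot_le)⟩
  have hmem : (X ^ n - 1 : k[X]) ∈ m.asIdeal := RingHom.mem_ker.mpr (by simp [ha])
  rw [← hQ] at hmem
  have hunit : IsUnit (algebraMap k[X] D (X ^ n - 1)) := by
    have : algebraMap k[X] D (X ^ n - 1) = φ (x ^ n - 1) := by
      simp [RingHom.algebraMap_toAlgebra]
    rw [this]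
    refine (Ne.isUnit fun h => ?_).map φ
    have h0 : (X ^ n - 1 : k[X]) = 0 := hinj (by
      rw [map_zero]
      exact this.trans (by rw [h, map_zero]))
    exact (Polynomial.X_pow_sub_C_ne_zero (show 0 < n by omega) (1 : k)) (by simpa using h0)
  exact Q.2.ne_top (Ideal.eq_top_of_isUnit_mem _ hmem hunit)

end Groth.Agent.GrpdDim
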