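import Mathlib
import Groth.Prelude.Def_Flat
import Groth.Agent.S1883
import Groth.Agent.ComodBasic.AffineHeight

/-!
# A groupoid scheme over a field is equidimensional
-/

set_option autoImplicit false
universe u

open CategoryTheory Limits AlgebraicGeometry

namespace Groth.Agent.GrpdDim

open Groth.Agent.S1883

/-- A maximal point generalising a given point. -/
theorem exists_maximal {X : Scheme.{u}} (x : X) : ∃ η : X, η ⤳ x ∧ ∀ η', η' ⤳ η → η' = η := by
  obtain ⟨η, hη⟩ := QuasiSober.sober (isIrreducible_irreducibleComponent (x := x)) isClosed_irreducibleComponent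
  refine ⟨η, hη.specializes mem_irreducibleComponent, fun η' h => (h.antisymm (hη.specializes ?_)).eq⟩
  refine (irreducibleComponent_mem_irreducibleComponents x).2 isIrreducible_singleton.closure ?_ (subset_closure rfl)
  rw [← hη.def]
  exact closure_minimal (Set.singleton_subset_iff.2 h.mem_closure) isClosed_closure

/-- The closure of a maximal point is an irreducible component, and conversely. -/
theorem maximal_iff {X : Scheme.{u}} (r : X) :
    (∀ r', r' ⤳ r → r' = r) ↔ closure ({r} : Set X) ∈ irreducibleComponents X := by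
  refine ⟨fun h => ?_, fun h r' hr' => ?_⟩
  · obtain ⟨η, hη, -⟩ := exists_maximal r
    refine ⟨isIrreducible_singleton.closure, fun T hT hle => ?_⟩
    obtain ⟨τ, hτ⟩ := QuasiSober.sober hT.closure isClosed_closure
    have := h τ (hτ.specializes (subset_closure (hle (subset_closure rfl))))
    subst this
    exact subset_closure.trans hτ.def.ge
  · refine (hr'.antisymm (isGenericPoint_closure.specializes ?_)).eq
    exact h.2 isIrreducible_singleton.closure
      (closure_minimal (Set.singleton_subset_iff.2 hr'.mem_closure) isClosed_closure) (subset_closure rfl)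

variable {S : Scheme.{u}} (G : Grpd.GroupoidScheme S) {k : Type u} [Field k] (eU : G.U ≅ Spec (CommRingCat.of k))
  [LocallyOfFiniteType G.s]

include eU

/-- Every component of `R` has the dimension of every component of the stabiliser through the identity. -/
theorem dim_closure_eq (r : G.R) (hr : ∀ r', r' ⤳ r → r' = r) (u₀ : G.U) (z : G.stabilizer)
    (hz : ∀ z', z' ⤳ z → z' = z) (hzu : z ⤳ G.eStab u₀) :
    topologicalKrullDim (closure ({r} : Set G.R)) = topologicalKrullDim (closure ({z} : Set G.stabilizer)) := by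
  have : LocallyOfFiniteType G.j :=
    @locallyOfFiniteType_of_comp _ _ _ G.j (pullback.snd G.pU G.pU) (j_snd G ▸ inferInstance)
  obtain ⟨ζ, hζr⟩ : r ∈ Set.range (G.j.fiberι (G.j r)) := by rw [Scheme.Hom.range_fiberι]; rfl
  have hζ : ∀ w, w ⤳ ζ → w = ζ := fun w hw =>
    (G.j.fiberι _).isEmbedding.injective ((hr _ ((hw.map (G.j.fiberι _).continuous).trans (specializes_of_eq hζr))).trans hζr.symm)
  let K := G.R.residueField r
  let a : Spec (CommRingCat.of K) ⟶ G.R := G.R.fromSpecResidueField r
  obtain ⟨e, he, hea⟩ := exists_isPullback G a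
  -- the point of the identity
  let a₀ : Spec (CommRingCat.of K) ⟶ pullback G.j (a ≫ G.j) :=
    pullback.lift a (𝟙 _) (by rw [Category.id_comp])
  let σ := a₀ (IsLocalRing.closedPoint K)
  have hσr : pullback.fst G.j (a ≫ G.j) σ = r := by
    rw [← Scheme.Hom.comp_apply, pullback.lift_fst]; exact G.R.fromSpecResidueField_apply r _
  have : Subsingleton G.U := eU.hom.homeomorph.injective.subsingleton
  have hσz : e σ = G.eStab u₀ := by
    rw [← Scheme.Hom.comp_apply, hea, Scheme.Hom.comp_apply]; exact congrArg _ (Subsingleton.elim _ _)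
  obtain ⟨φ, hφ⟩ := Spec.map_surjective ((a ≫ G.s) ≫ eU.hom)
  have he' : IsPullback e (pullback.snd G.j (a ≫ G.j)) (G.stabilizerToU ≫ eU.hom) (Spec.map φ) := by
    rw [hφ]
    exact IsPullback.of_iso he (Iso.refl _) (Iso.refl _) (Iso.refl _) eU (by simp) (by simp) (by simp) (by simp)
  have : LocallyOfFiniteType G.stabilizerToU :=
    inferInstanceAs (LocallyOfFiniteType (pullback.snd G.j G.diag))
  have : Flat e := by
    refine MorphismProperty.of_isPullback (P := @Flat) he'.flip (Flat.SpecMap_iff.mpr ?_)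
    algebraize [φ.hom]
    exact RingHom.flat_algebraMap_iff.mpr inferInstance
  obtain ⟨η₁, h1, rfl⟩ := Flat.generalizingMap e (hσz ▸ hzu : z ⤳ e σ)
  obtain ⟨η, h2, hmax⟩ := exists_maximal η₁
  have heq : e η = e η₁ := hz _ (h2.map e.continuous)
  have hdim := FibDim.dim_closure_fibre G.j ζ hζ (a ≫ G.j) (IsPullback.of_hasPullback _ _)
    (hσr.trans hζr.symm) (h2.trans h1) hmax
  obtain ⟨-, h3⟩ := FibDim.dim_closure_of_isPullback _ φ he' η hmax
  have h4 : closure ({r} : Set G.R) = (G.j.fiberι _) '' closure {ζ} := by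
    refine subset_antisymm (fun y hy => ?_) ?_
    · have h := specializes_iff_mem_closure.mpr hy
      obtain ⟨w, rfl⟩ : y ∈ Set.range (G.j.fiberι (G.j r)) := by
        rw [Scheme.Hom.range_fiberι]; exact (eq_of_specializes G eU h).symm
      exact ⟨w, ((G.j.fiberι _).isEmbedding.isInducing.specializes_iff.mp ((specializes_of_eq hζr).trans h)).mem_closure, rfl⟩
    · exact (image_closure_subset_closure_image (G.j.fiberι _).continuous).trans (by rw [Set.image_singleton, hζr])
  rw [h4, ← ((G.j.fiberι _).isEmbedding.homeomorphImage _).isHomeomorph.topologicalKrullDim_eq,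
    ← heq, ← hdim, h3]

/-- All components have the dimension of `R`. -/
theorem dim_closure_eq_dim (r : G.R) (hr : ∀ r', r' ⤳ r → r' = r) :
    topologicalKrullDim (closure ({r} : Set G.R)) = topologicalKrullDim G.R := by
  refine le_antisymm Topology.IsInducing.subtypeVal.topologicalKrullDim_le ?_
  rw [S10831.result G.R]
  refine iSup₂_le fun Y hY => le_of_eq ?_
  obtain ⟨r', hr'⟩ := QuasiSober.sober hY.1 (isClosed_of_mem_irreducibleComponents Y hY)
  obtain ⟨z, hz, hzmax⟩ := exists_maximal (G.eStab (G.s r))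
  rw [dim_closure_eq G eU r hr _ z hzmax hz, ← hr'.def,
    dim_closure_eq G eU r' ((maximal_iff r').mpr (hr'.def.symm ▸ hY)) _ z hzmax hz]

theorem localDim_eq (r : G.R) : FlatMor.localDim G.R r = topologicalKrullDim G.R := by
  refine le_antisymm (iInf_le_of_le ⟨⊤, trivial⟩ Topology.IsInducing.subtypeVal.topologicalKrullDim_le)
    (le_iInf ?_)
  rintro ⟨U, hU⟩
  let U : G.R.Opens := U
  obtain ⟨η, hη, hmax⟩ := exists_maximal r
  have hηU : η ∈ U := hη.mem_open U.2 hU
  rw [← dim_closure_eq_dim G eU η hmax]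
  refine le_of_eq_of_le (FibDim.dim_closure_openImmersion (Scheme.Opens.ι U) (G.s ≫ eU.hom) ⟨η, hηU⟩) ?_
  exact Topology.IsInducing.subtypeVal.topologicalKrullDim_le

theorem ringKrullDim_stalk_eq (r : G.R) (hr : IsClosed ({r} : Set G.R)) :
    (ringKrullDim (G.R.presheaf.stalk r) : WithBot ℕ∞) = topologicalKrullDim G.R := by
  refine le_antisymm ?_ ?_
  · refine le_of_eq_of_le (ringKrullDim_stalk_eq_coheight r) ?_
    let _ := specializationOrder G.R
    rw [show topologicalKrullDim G.R = Order.krullDim G.R from Order.krullDim_eq_of_orderIso irreducibleSetEquivPoints,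
      Order.krullDim_eq_iSup_coheight]
    exact le_iSup (fun a => (Order.coheight a : WithBot ℕ∞)) r
  obtain ⟨η, hη, hmax⟩ := exists_maximal r
  obtain ⟨U, hU, hrU, -⟩ := exists_isAffineOpen_mem_and_subset (X := G.R) (x := r) (U := ⊤) trivial
  have hηU : η ∈ U := hη.mem_open U.isOpen hrU
  let q := hU.primeIdealOf ⟨η, hηU⟩
  let m := hU.primeIdealOf ⟨r, hrU⟩
  obtain ⟨ψ, hψ⟩ := Spec.map_surjective (R := CommRingCat.of k) (hU.fromSpec ≫ G.s ≫ eU.hom)
  let : Algebra k Γ(G.R, U) := ψ.hom.toAlgebra
  have : Algebra.FiniteType k Γ(G.R, U) :=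
    RingHom.finiteType_algebraMap.mp ((HasRingHomProperty.Spec_iff (P := @LocallyOfFiniteType)).mp (hψ ▸ inferInstance))
  have hm : m.asIdeal.IsMaximal := by
    refine (PrimeSpectrum.isClosed_singleton_iff_isMaximal m).mp ?_
    rw [show ({m} : Set (PrimeSpectrum Γ(G.R, U))) = hU.fromSpec ⁻¹' {r} from ?_]
    · exact hr.preimage hU.fromSpec.continuous
    refine Set.ext fun w => ?_
    refine ⟨fun h => h ▸ hU.fromSpec_primeIdealOf ⟨r, hrU⟩, fun h => ?_⟩
    exact hU.fromSpec.isOpenEmbedding.injective (h.trans (hU.fromSpec_primeIdealOf ⟨r, hrU⟩).symm)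
  have hle : q.asIdeal ≤ m.asIdeal := (PrimeSpectrum.le_iff_specializes q m).mpr
    (hU.fromSpec.isOpenEmbedding.isInducing.specializes_iff.mp (by
      rw [hU.fromSpec_primeIdealOf, hU.fromSpec_primeIdealOf]; exact hη))
  obtain ⟨N, hN, hN'⟩ := ComodBasic.exists_height_eq_of_isMaximal k (Γ(G.R, U) ⧸ q.asIdeal)
  let := (G.R.presheaf.germ U r hrU).hom.toAlgebra
  have := hU.isLocalization_stalk ⟨r, hrU⟩
  rw [IsLocalization.AtPrime.ringKrullDim_eq_height m.asIdeal (G.R.presheaf.stalk r),
    ← dim_closure_eq_dim G eU η hmax]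
  refine le_of_eq_of_le ?_ (WithBot.coe_le_coe.mpr (?_ : (m.asIdeal.map (Ideal.Quotient.mk q.asIdeal)).height ≤ m.asIdeal.height))
  · have hmax' : (m.asIdeal.map (Ideal.Quotient.mk q.asIdeal)).IsMaximal :=
      (Ideal.map_eq_top_or_isMaximal_of_surjective _ Ideal.Quotient.mk_surjective hm).resolve_left fun h => by
        have := congrArg (Ideal.comap (Ideal.Quotient.mk q.asIdeal)) h
        rw [Ideal.comap_map_of_surjective' _ Ideal.Quotient.mk_surjective, Ideal.mk_ker, sup_eq_left.2 hle,
          Ideal.comap_top] at this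
        exact hm.ne_top this
    rw [hN' _ hmax']
    rw [show η = hU.fromSpec q from (hU.fromSpec_primeIdealOf ⟨η, hηU⟩).symm,
      FibDim.dim_closure_openImmersion hU.fromSpec (G.s ≫ eU.hom),
      DimTrdeg.topologicalKrullDim_closure_inter, hN]
    rfl
  · have : (m.asIdeal.map (Ideal.Quotient.mk q.asIdeal)).IsPrime :=
      Ideal.map_isPrime_of_surjective Ideal.Quotient.mk_surjective (Ideal.mk_ker.trans_le hle)
    let M : PrimeSpectrum (Γ(G.R, U) ⧸ q.asIdeal) := ⟨_, this⟩
    have hM : PrimeSpectrum.comap (Ideal.Quotient.mk q.asIdeal) M = m := by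
      refine PrimeSpectrum.ext ?_
      exact (Ideal.comap_map_of_surjective' _ Ideal.Quotient.mk_surjective _).trans (by rw [Ideal.mk_ker, sup_eq_left.2 hle])
    rw [show (m.asIdeal.map (Ideal.Quotient.mk q.asIdeal)).height = Order.height M from PrimeSpectrum.height_eq_orderHeight M,
      PrimeSpectrum.height_eq_orderHeight m]
    refine le_trans (Order.height_le_height_apply_of_strictMono (PrimeSpectrum.comap (Ideal.Quotient.mk q.asIdeal))
      (fun P Q h => lt_of_le_of_ne (Ideal.comap_mono h.le) fun heq => h.ne (PrimeSpectrum.ext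
        (Ideal.comap_injective_of_surjective _ Ideal.Quotient.mk_surjective (congrArg PrimeSpectrum.asIdeal heq)))) M) ?_
    rw [hM]

end Groth.Agent.GrpdDim
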